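import Cfsg.Agent.H457.RC.KForm

/-!
# S3510, row F even, box D: `Q` is the trace of the `K`-form (helper457)

`exists_all`: everything about the `K`-structure in one statement.
-/

set_option autoImplicit false
set_option linter.unusedSectionVars false

namespace Cfsg.Agent.H457.RC

open QuadraticMap
open Cfsg.Agent.LieClassical.OrthCore Cfsg.Agent.LieClassical.OrthTrans
open Cfsg.Agent.LieClassical.OrthSimple Cfsg.Agent.ClassicalGeometry.OrthSemi
open Cfsg.Agent.ClassicalGeometry.OrthAut1 Cfsg.Agent.H93.RC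

section tr

variable {F K : Type*} [Field F] [Field K] [Algebra F K] {α : K} {s t : F}

/-- the coordinates -/
theorem Gen.exists_equiv (h : Gen F K α s t) :
    ∃ e : K ≃ₗ[F] (Fin 2 → F), ∀ x y : F, e (algebraMap F K x + algebraMap F K y * α) = ![x, y] := by
  classical
  let g : (Fin 2 → F) →ₗ[F] K :=
    { toFun := fun f => algebraMap F K (f 0) + algebraMap F K (f 1) * α
      map_add' := by
        intro f f'
        simp only [Pi.add_apply, map_add]
        ring
      map_smul' := by
        intro a f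
        simp only [Pi.smul_apply, smul_eq_mul, map_mul, RingHom.id_apply, Algebra.smul_def]
        ring }
  have hg : Function.Bijective g := by
    constructor
    · intro f f' hff
      obtain ⟨h1, h2⟩ := h.uniq hff
      ext i
      fin_cases i
      · exact h1
      · exact h2
    · intro a
      obtain ⟨x, y, rfl⟩ := h.gen a
      exact ⟨![x, y], rfl⟩
  refine ⟨(LinearEquiv.ofBijective g hg).symm, fun x y => ?_⟩
  rw [LinearEquiv.symm_apply_eq]
  rfl

theorem Gen.trace_eq (h : Gen F K α s t) (x y : F) :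
    Algebra.trace F K (algebraMap F K x + algebraMap F K y * α) = 2 * x + s * y := by
  classical
  obtain ⟨e, he⟩ := h.exists_equiv
  let b : Module.Basis (Fin 2) F K := Module.Basis.ofEquivFun e
  have hb0 : b 0 = 1 := by
    apply e.injective
    have h1 := he 1 0
    rw [map_one, map_zero, zero_mul, add_zero] at h1
    rw [h1]
    have h2 : b 0 = e.symm (Pi.single 0 1) := by simp [b]
    rw [h2, LinearEquiv.apply_symm_apply]
    ext i
    fin_cases i <;> simp
  have hb1 : b 1 = α := by
    apply e.injective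
    have h1 := he 0 1
    rw [map_one, map_zero, zero_add, one_mul] at h1
    rw [h1]
    have h2 : b 1 = e.symm (Pi.single 1 1) := by simp [b]
    rw [h2, LinearEquiv.apply_symm_apply]
    ext i
    fin_cases i <;> simp
  rw [Algebra.trace_eq_matrix_trace b, Matrix.trace_fin_two, Algebra.leftMulMatrix_eq_repr_mul,
    Algebra.leftMulMatrix_eq_repr_mul, hb0, hb1]
  have h3 : ∀ (a : K) (i : Fin 2), b.repr a i = e a i := by
    intro a i
    simp [b]
  rw [h3, h3, mul_one, he]
  have h4 : (algebraMap F K x + algebraMap F K y * α) * α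
      = algebraMap F K (-(y * t)) + algebraMap F K (x + y * s) * α := by
    rw [map_neg, map_mul, map_add, map_mul]
    linear_combination (algebraMap F K y) * h.sq
  rw [h4, he]
  simp only [Matrix.cons_val_zero, Matrix.cons_val_one]
  ring

/-- the functional of `Gen.exists_functional` is the trace -/
theorem Gen.trace_functional (h : Gen F K α s t) (hs : s ≠ 0) (a b : F) :
    Algebra.trace F K ((algebraMap F K a - (algebraMap F K s - α) * algebraMap F K b)
      / (2 * α - algebraMap F K s)) = b := by
  obtain ⟨x, y, hxy⟩ := h.gen ((algebraMap F K a - (algebraMap F K s - α) * algebraMap F K b)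
      / (2 * α - algebraMap F K s))
  rw [hxy, h.trace_eq]
  rw [div_eq_iff (h.delta_ne hs)] at hxy
  have h1 : algebraMap F K (a - s * b) + algebraMap F K b * α
      = algebraMap F K (-(s * x) - 2 * y * t) + algebraMap F K (2 * x + s * y) * α := by
    simp only [map_sub, map_mul, map_add, map_neg, map_ofNat]
    linear_combination hxy + (2 * algebraMap F K y) * h.sq
  exact (h.uniq h1).2.symm

end tr

/-- **The `K`-form, with the trace.** -/
theorem exists_KT {F K V : Type*} [Field F] [Field K] [Algebra F K] [AddCommGroup V] [Module F V] [Module K V]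
    [IsScalarTower F K V] {Q : QuadraticForm F V} {α : K} {s t : F} [Finite F] (h : Gen F K α s t)
    (hself : ∀ v w, polar Q (α • v) w = polar Q v (α • w)) :
    ∃ R : QuadraticForm K V, KF Q R (Algebra.trace F K) := by
  obtain ⟨β, s', t', hs, hβ⟩ := h.exists_trace_ne
  have hself' : ∀ v w, polar Q (β • v) w = polar Q v (β • w) := fun v w => h.self hself β v w
  refine ⟨QK hβ hs hself', fun v => hβ.trace_functional hs _ _, ?_⟩
  intro f c hK hf v
  rw [QK_apply, QK_apply]
  unfold qK
  rw [← hK, hf, hf, ← mul_div_assoc]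
  congr 1
  simp only [map_mul, map_add]
  ring

/-- the lift over `K` -/
theorem KF.exists_Gam {F K V : Type*} [Field F] [Field K] [Algebra F K] [AddCommGroup V] [Module F V] [Module K V]
    [IsScalarTower F K V] {Q : QuadraticForm F V} {α : K} {s t : F} {R : QuadraticForm K V} {l : K →ₗ[F] F}
    (hR : KF Q R l) (h : Gen F K α s t) [Nontrivial V] (M : Gam Q) (hM : IsLin M)
    (hα : ∀ v, M.1 (α • v) = α • M.1 v) :
    ∃ (ML : Gam R) (c : F), M.1 = ML.1 ∧ IsLin ML ∧ c ≠ 0 ∧ (∀ v, Q (M.1 v) = c * Q v) ∧
      ∀ v, R (M.1 v) = algebraMap F K c * R v := by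
  obtain ⟨σ, c, hc⟩ := M.2
  have hK : ∀ (a : K) (v : V), M.1 (a • v) = a • M.1 v := h.linear hc.add hM hα
  -- `σ` is trivial
  have hσ : ∀ a : F, σ a = a := by
    intro a
    obtain ⟨v, hv⟩ := exists_ne (0 : V)
    have h1 := hc.smul a v
    rw [hM a v] at h1
    have h2 : M.1 v ≠ 0 := by
      intro h3
      apply hv
      apply M.1.injective
      rw [h3, hc.map_zero]
    have h3 : (a - σ a) • M.1 v = 0 := by rw [sub_smul, h1, sub_self]
    rcases smul_eq_zero.mp h3 with h4 | h4
    · exact (sub_eq_zero.mp h4).symm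
    · exact (h2 h4).elim
  have hQ : ∀ v, Q (M.1 v) = c * Q v := fun v => by rw [hc.form, hσ]
  have hR' : ∀ v, R (M.1 v) = algebraMap F K c * R v := hR.sim _ c hK hQ
  have hc0 : algebraMap F K c ≠ 0 := by
    rw [Ne, map_eq_zero]; exact hc.ne
  refine ⟨⟨M.1, RingEquiv.refl K, algebraMap F K c, hc0, hc.add, hK, hR'⟩, c, rfl, hK, hc.ne, hQ, hR'⟩

/-- **Everything about the `K`-structure in one statement.** -/
theorem exists_all {F V : Type} [Field F] [Finite F] [AddCommGroup V] [Module F V] [FiniteDimensional F V]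
    {Q : QuadraticForm F V} (hQ : Nondeg Q) (hV : Module.finrank F V ≠ 0) (κ : V →ₗ[F] V) (s t : F)
    (hκ : ∀ v, κ (κ v) = s • κ v - t • v) (hirr : ∀ a : F, a * a - s * a + t ≠ 0)
    (hadj : ∀ v w, polar Q (κ v) w = polar Q v (κ w)) :
    ∃ (K : Type) (_ : Field K) (_ : Finite K) (_ : Algebra F K) (_ : Module K V) (_ : IsScalarTower F K V)
      (_ : FiniteDimensional K V) (α : K) (R : QuadraticForm K V),
      Nat.card K = Nat.card F ^ 2 ∧ (∀ v : V, α • v = κ v) ∧ Gen F K α s t ∧
      (∀ v, Algebra.trace F K (R v) = Q v) ∧ KF Q R (Algebra.trace F K) ∧ Nondeg R ∧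
      Module.finrank F V = 2 * Module.finrank K V ∧
      ∀ M : Gam Q, IsLin M → (∀ v, M.1 (κ v) = κ (M.1 v)) →
        ∃ (ML : Gam R) (c : F), M.1 = ML.1 ∧ IsLin ML ∧ c ≠ 0 ∧ (∀ v, Q (M.1 v) = c * Q v) ∧
          ∀ v, R (M.1 v) = algebraMap F K c * R v := by
  obtain ⟨K, _, _, _, _, _, α, hc, hα, hgen⟩ := exists_K (V := V) (s := s) (t := t)
    (fun x => by rw [pow_two]; exact hirr x) κ hκ
  have hfin : Finite V := Module.finite_of_finite F
  have hfd : FiniteDimensional K V := Module.Finite.of_finite
  obtain ⟨R, hR⟩ := exists_KT (Q := Q) hgen (fun v w => by rw [hα, hα, hadj])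
  have hnt : Nontrivial V := Module.nontrivial_of_finrank_pos (Nat.pos_of_ne_zero hV)
  refine ⟨K, inferInstance, inferInstance, inferInstance, inferInstance, inferInstance, hfd, α, R, hc, hα, hgen,
    hR.form, hR, hR.nondeg hQ, finrank_K hc, fun M hM hMκ => ?_⟩
  exact hR.exists_Gam hgen M hM (fun v => by rw [hα, hα, hMκ])

end Cfsg.Agent.H457.RC
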