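import Cfsg.Agent.H457.RC.KStr
import Cfsg.Agent.H93.RC.Defs

/-!
# S3510, row F even, box D: the `K`-valued quadratic form (helper457)

`V` a vector space over the quadratic extension `K / F`, `Q` a quadratic form over `F` for which the elements of `K`
are self adjoint. Then `Q = l ∘ QK` with a quadratic form `QK` over `K` and an `F`-linear form `l : K → F`.
-/

set_option autoImplicit false
set_option linter.unusedSectionVars false

namespace Cfsg.Agent.H457.RC

open QuadraticMap
open Cfsg.Agent.LieClassical.OrthCore Cfsg.Agent.LieClassical.OrthTrans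
open Cfsg.Agent.LieClassical.OrthSimple Cfsg.Agent.ClassicalGeometry.OrthSemi
open Cfsg.Agent.ClassicalGeometry.OrthAut1

variable {F K V : Type*} [Field F] [Field K] [Algebra F K] [AddCommGroup V] [Module F V] [Module K V]
  [IsScalarTower F K V] {Q : QuadraticForm F V} {α : K} {s t : F}

theorem Gen.sq_smul (h : Gen F K α s t) (v : V) : α • α • v = s • (α • v) - t • v := by
  rw [smul_smul, ← pow_two, h.sq, sub_smul, mul_smul, algebraMap_smul, algebraMap_smul]

/-- self adjointness for all elements of `K` -/
theorem Gen.self (h : Gen F K α s t) (hself : ∀ v w, polar Q (α • v) w = polar Q v (α • w)) (a : K) (v w : V) :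
    polar Q (a • v) w = polar Q v (a • w) := by
  obtain ⟨x, y, rfl⟩ := h.gen a
  rw [add_smul, add_smul, mul_smul, mul_smul, algebraMap_smul, algebraMap_smul, algebraMap_smul, algebraMap_smul,
    polar_add_left, polar_add_right, polar_smul_left, polar_smul_right, polar_smul_left, polar_smul_right, hself]

/-- the `K`-bilinear form -/
noncomputable def BK (Q : QuadraticForm F V) (α : K) (s : F) (v w : V) : K :=
  (algebraMap F K (polar Q (α • v) w) - (algebraMap F K s - α) * algebraMap F K (polar Q v w))
    / (2 * α - algebraMap F K s)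

theorem BK_add_left (v v' w : V) : BK Q α s (v + v') w = BK Q α s v w + BK Q α s v' w := by
  unfold BK
  rw [smul_add, polar_add_left, polar_add_left, map_add, map_add]
  ring

theorem BK_add_right (v w w' : V) : BK Q α s v (w + w') = BK Q α s v w + BK Q α s v w' := by
  unfold BK
  rw [polar_add_right, polar_add_right, map_add, map_add]
  ring

theorem smul_smul_comm' (a : F) (b : K) (v : V) : b • a • v = a • b • v := by
  rw [← algebraMap_smul K a v, ← algebraMap_smul K a (b • v), smul_smul, smul_smul, mul_comm]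

theorem BK_smulF_left (a : F) (v w : V) : BK Q α s (a • v) w = algebraMap F K a * BK Q α s v w := by
  unfold BK
  rw [smul_smul_comm', polar_smul_left, polar_smul_left, smul_eq_mul, smul_eq_mul, map_mul, map_mul]
  ring

theorem BK_comm (hself : ∀ v w, polar Q (α • v) w = polar Q v (α • w)) (v w : V) :
    BK Q α s v w = BK Q α s w v := by
  unfold BK
  rw [hself, polar_comm, polar_comm Q v w]

theorem Gen.BK_smulα_left (h : Gen F K α s t) (v w : V) : BK Q α s (α • v) w = α * BK Q α s v w := by
  unfold BK
  rw [h.sq_smul, polar_sub_left, polar_smul_left, polar_smul_left, smul_eq_mul, smul_eq_mul, map_sub, map_mul, map_mul,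
    ← mul_div_assoc]
  congr 1
  have := h.sq
  linear_combination (-(algebraMap F K (polar Q v w))) * this

theorem Gen.BK_smul_left (h : Gen F K α s t) (a : K) (v w : V) : BK Q α s (a • v) w = a * BK Q α s v w := by
  obtain ⟨x, y, rfl⟩ := h.gen a
  rw [add_smul, mul_smul, algebraMap_smul, algebraMap_smul, BK_add_left, BK_smulF_left, BK_smulF_left,
    h.BK_smulα_left]
  ring

theorem Gen.BK_smul_right (h : Gen F K α s t) (hself : ∀ v w, polar Q (α • v) w = polar Q v (α • w))
    (a : K) (v w : V) : BK Q α s v (a • w) = a * BK Q α s v w := by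
  rw [BK_comm hself, h.BK_smul_left, BK_comm hself]

/-- the values of the `K`-form -/
noncomputable def qK (Q : QuadraticForm F V) (α : K) (s t : F) (v : V) : K :=
  (algebraMap F K (s⁻¹ * (Q (α • v) + t * Q v)) - (algebraMap F K s - α) * algebraMap F K (Q v))
    / (2 * α - algebraMap F K s)

theorem Gen.polar_αα (h : Gen F K α s t) (hself : ∀ v w, polar Q (α • v) w = polar Q v (α • w)) (v w : V) :
    polar Q (α • v) (α • w) = s * polar Q (α • v) w - t * polar Q v w := by
  rw [← hself, h.sq_smul, polar_sub_left, polar_smul_left, polar_smul_left, smul_eq_mul, smul_eq_mul]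

theorem Gen.qK_add (h : Gen F K α s t) (hs : s ≠ 0) (hself : ∀ v w, polar Q (α • v) w = polar Q v (α • w))
    (v w : V) : qK Q α s t (v + w) = qK Q α s t v + qK Q α s t w + BK Q α s v w := by
  unfold qK BK
  have h1 : Q (v + w) = Q v + Q w + polar Q v w := by
    rw [polar]; ring
  have h2 : Q (α • (v + w)) = Q (α • v) + Q (α • w) + polar Q (α • v) (α • w) := by
    rw [smul_add, polar]; ring
  have h3 : s⁻¹ * (Q (α • (v + w)) + t * Q (v + w)) = s⁻¹ * (Q (α • v) + t * Q v) + s⁻¹ * (Q (α • w) + t * Q w)
      + polar Q (α • v) w := by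
    rw [h1, h2, h.polar_αα hself]
    field_simp
    ring
  rw [h3, h1, map_add, map_add, map_add, map_add]
  ring

/-- `2 T(v) = B(α v, v)` -/
theorem Gen.two_T (h : Gen F K α s t) (hs : s ≠ 0) (hself : ∀ v w, polar Q (α • v) w = polar Q v (α • w)) (v : V) :
    polar Q (α • v) v = 2 * (s⁻¹ * (Q (α • v) + t * Q v)) := by
  have h1 := h.polar_αα hself v v
  rw [polar_self, polar_self] at h1
  have h2 : s * polar Q (α • v) v = 2 * (Q (α • v) + t * Q v) := by linear_combination -h1
  field_simp
  linear_combination h2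

theorem Gen.qK_smulα (h : Gen F K α s t) (hs : s ≠ 0) (hself : ∀ v w, polar Q (α • v) w = polar Q v (α • w))
    (v : V) : qK Q α s t (α • v) = α ^ 2 * qK Q α s t v := by
  have h1 : Q (α • α • v) = s ^ 2 * Q (α • v) + t ^ 2 * Q v - s * t * polar Q (α • v) v := by
    rw [h.sq_smul, sub_eq_add_neg, Q_add, QuadraticMap.map_neg, QuadraticMap.map_smul, QuadraticMap.map_smul,
      polar_neg_right, polar_smul_left, polar_smul_right]
    simp only [smul_eq_mul]
    ring
  set a : F := s⁻¹ * (Q (α • v) + t * Q v) with ha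
  have h2 : Q (α • v) = s * a - t * Q v := by
    rw [ha]; field_simp; ring
  have h3 : polar Q (α • v) v = 2 * a := h.two_T hs hself v
  have h4 : s⁻¹ * (Q (α • α • v) + t * Q (α • v)) = (s ^ 2 - t) * a - s * t * Q v := by
    rw [h1, h3, h2]
    field_simp
    ring
  unfold qK
  rw [h4, ← ha, h2, ← mul_div_assoc]
  congr 1
  have := h.sq
  simp only [map_sub, map_mul, map_pow]
  linear_combination (-(algebraMap F K a) - α * algebraMap F K (Q v)) * this

theorem qK_smulF (a : F) (v : V) : qK Q α s t (a • v) = algebraMap F K a ^ 2 * qK Q α s t v := by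
  unfold qK
  rw [smul_smul_comm', QuadraticMap.map_smul, QuadraticMap.map_smul, ← mul_div_assoc]
  congr 1
  simp only [smul_eq_mul, map_mul, map_add]
  ring

theorem Gen.BK_α_right (h : Gen F K α s t) (hs : s ≠ 0)
    (hself : ∀ v w, polar Q (α • v) w = polar Q v (α • w)) (v : V) :
    BK Q α s v (α • v) = 2 * α * qK Q α s t v := by
  have h1 : BK Q α s v v = 2 * qK Q α s t v := by
    unfold BK qK
    rw [h.two_T hs hself, polar_self, ← mul_div_assoc]
    congr 1
    simp only [map_mul, map_ofNat, nsmul_eq_mul, Nat.cast_ofNat]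
    ring
  rw [h.BK_smul_right hself, h1]
  ring

theorem Gen.qK_smul (h : Gen F K α s t) (hs : s ≠ 0) (hself : ∀ v w, polar Q (α • v) w = polar Q v (α • w))
    (a : K) (v : V) : qK Q α s t (a • v) = a * a * qK Q α s t v := by
  obtain ⟨x, y, rfl⟩ := h.gen a
  rw [add_smul, mul_smul, algebraMap_smul, algebraMap_smul, h.qK_add hs hself, qK_smulF, qK_smulF,
    h.qK_smulα hs hself, BK_smulF_left, BK_comm hself, BK_smulF_left, BK_comm hself, h.BK_α_right hs hself]
  ring

/-- the quadratic form over `K` -/
noncomputable def QK (h : Gen F K α s t) (hs : s ≠ 0)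
    (hself : ∀ v w, polar Q (α • v) w = polar Q v (α • w)) : QuadraticForm K V where
  toFun := qK Q α s t
  toFun_smul a v := h.qK_smul hs hself a v
  exists_companion' := ⟨LinearMap.mk₂ K (BK Q α s) BK_add_left (fun a v w => h.BK_smul_left a v w)
    BK_add_right (fun a v w => h.BK_smul_right hself a v w), fun v w => h.qK_add hs hself v w⟩

theorem QK_apply (h : Gen F K α s t) (hs : s ≠ 0)
    (hself : ∀ v w, polar Q (α • v) w = polar Q v (α • w)) (v : V) : QK h hs hself v = qK Q α s t v := rfl

/-- `R` is a `K`-form for `Q` -/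
structure KF (Q : QuadraticForm F V) (R : QuadraticForm K V) (l : K →ₗ[F] F) : Prop where
  form : ∀ v, l (R v) = Q v
  sim : ∀ (f : V → V) (c : F), (∀ (a : K) (v : V), f (a • v) = a • f v) → (∀ v, Q (f v) = c * Q v) →
    ∀ v, R (f v) = algebraMap F K c * R v

/-- **Existence of the `K`-form.** -/
theorem exists_KF [Finite F] (h : Gen F K α s t) (hself : ∀ v w, polar Q (α • v) w = polar Q v (α • w)) :
    ∃ (R : QuadraticForm K V) (l : K →ₗ[F] F), KF Q R l := by
  obtain ⟨β, s', t', hs, hβ⟩ := h.exists_trace_ne
  have hself' : ∀ v w, polar Q (β • v) w = polar Q v (β • w) := fun v w => h.self hself β v w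
  obtain ⟨l, hl⟩ := hβ.exists_functional hs
  refine ⟨QK hβ hs hself', l, fun v => hl _ _, ?_⟩
  intro f c hK hf v
  rw [QK_apply, QK_apply]
  unfold qK
  rw [← hK, hf, hf, ← mul_div_assoc]
  congr 1
  simp only [map_mul, map_add]
  ring

section KF

variable {R : QuadraticForm K V} {l : K →ₗ[F] F}

theorem KF.polar (h : KF Q R l) (v w : V) : l (QuadraticMap.polar R v w) = QuadraticMap.polar Q v w := by
  unfold QuadraticMap.polar
  rw [map_sub, map_sub, h.form, h.form, h.form]

theorem KF.nondeg (h : KF Q R l) (hQ : Nondeg Q) : Nondeg R := by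
  intro x hx
  apply hQ
  intro y
  rw [← h.polar, hx, map_zero]

theorem KF.sing (h : KF Q R l) {v : V} (hv : R v = 0) (a : K) : Q (a • v) = 0 := by
  rw [← h.form, QuadraticMap.map_smul, hv, smul_zero, map_zero]

theorem KF.orth (h : KF Q R l) {v w : V} (hv : QuadraticMap.polar R v w = 0) (a b : K) :
    QuadraticMap.polar Q (a • v) (b • w) = 0 := by
  rw [← h.polar, polar_smul_left, polar_smul_right, hv, smul_zero, smul_zero, map_zero]

theorem KF.polar_self (h : KF Q R l) (a : K) (v w : V) :
    QuadraticMap.polar Q (a • v) w = QuadraticMap.polar Q v (a • w) := by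
  rw [← h.polar, ← h.polar, polar_smul_left, polar_smul_right]

theorem KF.l_ne (h : KF Q R l) (hQ : Nondeg Q) [Nontrivial V] : l ≠ 0 := by
  intro hl
  obtain ⟨v, hv⟩ := exists_ne (0 : V)
  apply hv
  apply hQ
  intro y
  rw [← h.polar, hl, LinearMap.zero_apply]

/-- orthogonality over `F` of `K`-subspaces is orthogonality over `K` -/
theorem KF.polar_eq_zero (h : KF Q R l) (hQ : Nondeg Q) {v w : V}
    (hv : ∀ a : K, QuadraticMap.polar Q (a • v) w = 0) : QuadraticMap.polar R v w = 0 := by
  by_contra hne
  have hnt : Nontrivial V := by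
    refine ⟨v, 0, ?_⟩
    rintro rfl
    exact hne (polar_zero_left _ _)
  apply h.l_ne hQ
  ext z
  have h1 := hv (z / QuadraticMap.polar R v w)
  rw [← h.polar, polar_smul_left, smul_eq_mul, div_mul_cancel₀ _ hne] at h1
  rw [h1, LinearMap.zero_apply]

/-- isometries commuting with `K` -/
theorem KF.isom (h : KF Q R l) {f : V → V} (hK : ∀ (a : K) (v : V), f (a • v) = a • f v) :
    (∀ v, R (f v) = R v) ↔ ∀ v, Q (f v) = Q v := by
  constructor
  · intro hf v
    rw [← h.form, hf, h.form]
  · intro hf v
    rw [h.sim f 1 hK (fun v => by rw [hf, one_mul]), map_one, one_mul]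

end KF

theorem finrank_K {F K V : Type*} [Field F] [Field K] [Finite F] [Finite K] [Algebra F K] [AddCommGroup V]
    [Module F V] [Module K V] [FiniteDimensional F V] (hc : Nat.card K = Nat.card F ^ 2) :
    Module.finrank F V = 2 * Module.finrank K V := by
  have hV : Finite V := Module.finite_of_finite F
  have hK : Module.Finite K V := Module.Finite.of_finite
  have h1 := Module.natCard_eq_pow_finrank (K := F) (V := V)
  have h2 := Module.natCard_eq_pow_finrank (K := K) (V := V)
  rw [h2, hc, ← pow_mul] at h1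
  exact (Nat.pow_right_injective Finite.one_lt_card h1).symm

end Cfsg.Agent.H457.RC
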