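import Cfsg.Agent.H457.RC.KAll
import Cfsg.Agent.H188.RC.ThmA

/-!
# S3510, row F even, box D4: the image of `E R` (`R` the `K`-form, `E R` perfect) (helper457)
-/

set_option autoImplicit false
set_option linter.unusedSectionVars false
open Cfsg

namespace Cfsg.Agent.H457.RC

open QuadraticMap MulAction
open Cfsg.Agent.LieClassical.OrthCore Cfsg.Agent.LieClassical.OrthTrans
open Cfsg.Agent.LieClassical.OrthSimple Cfsg.Agent.ClassicalGeometry.OrthSemi
open Cfsg.Agent.ClassicalGeometry.OrthAut1 Cfsg.Agent.H106.RC Cfsg.Agent.H93.RC Cfsg.Agent.H188.RC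

variable {F V K : Type*} [Field F] [AddCommGroup V] [Module F V] [Field K] [Algebra F K] [Module K V]
  [IsScalarTower F K V] {Q : QuadraticForm F V} {R : QuadraticForm K V} {l : K →ₗ[F] F}

/-- restriction of scalars -/
def rst (F : Type*) {V K : Type*} [Field F] [AddCommGroup V] [Module F V] [Field K] [Algebra F K] [Module K V]
    [IsScalarTower F K V] : (V ≃ₗ[K] V) →* (V ≃ₗ[F] V) where
  toFun g := g.restrictScalars F
  map_one' := rfl
  map_mul' _ _ := rfl

theorem rst_apply (g : V ≃ₗ[K] V) (v : V) : rst F g v = g v := rfl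

theorem rst_mem_O (hR : KF Q R l) {g : V ≃ₗ[K] V} (hg : g ∈ O R) : rst F g ∈ O Q := by
  intro v
  rw [rst_apply, ← hR.form, ← hR.form, hg v]

theorem E_perf_of (hp : commutator ↥(E R) = ⊤) : ⁅E R, E R⁆ = E R := by
  have h1 : (commutator ↥(E R)).map (E R).subtype = ⁅E R, E R⁆ := by
    rw [commutator_def, Subgroup.map_commutator, ← MonoidHom.range_eq_map, Subgroup.range_subtype]
  rw [← h1, hp, ← MonoidHom.range_eq_map, Subgroup.range_subtype]

theorem rst_mem_E (hG : Good Q) (hp : commutator ↥(E R) = ⊤) (hR : KF Q R l) {g : V ≃ₗ[K] V}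
    (hg : g ∈ E R) : rst F g ∈ E Q := by
  rw [← E_perf_of hp] at hg
  have h1 : (⁅E R, E R⁆).map (rst F) ≤ ⁅O Q, O Q⁆ := by
    rw [Subgroup.map_commutator]
    refine Subgroup.commutator_mono ?_ ?_ <;>
    · rintro _ ⟨k, hk, rfl⟩
      exact rst_mem_O hR (E_le_O hk)
  rw [hG.commutator_eq_E] at h1
  exact h1 ⟨g, hg, rfl⟩

/-- `E R →* E Q` -/
def psi (hG : Good Q) (hp : commutator ↥(E R) = ⊤) (hR : KF Q R l) : ↥(E R) →* ↥(E Q) where
  toFun g := ⟨rst F g.1, rst_mem_E hG hp hR g.2⟩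
  map_one' := rfl
  map_mul' _ _ := rfl

theorem psi_apply (hG : Good Q) (hp : commutator ↥(E R) = ⊤) (hR : KF Q R l) (g : ↥(E R)) (v : V) :
    (psi hG hp hR g : V ≃ₗ[F] V) v = (g : V ≃ₗ[K] V) v := rfl

theorem psi_injective (hG : Good Q) (hp : commutator ↥(E R) = ⊤) (hR : KF Q R l) :
    Function.Injective (psi hG hp hR) := by
  intro a b hab
  apply Subtype.ext
  apply LinearEquiv.ext
  intro v
  rw [← psi_apply hG hp hR, hab, psi_apply]

section conj

variable {G : Type*} [Group G] {N : Subgroup G} {ρ : ↥(E Q) →* G}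

/-- conjugation by an element which is semilinear over both fields -/
theorem conj_psi (hG : Good Q) (hp : commutator ↥(E R) = ⊤) (hR : KF Q R l) (M : Gam Q) (ML : Gam R)
    (h : M.1 = ML.1) (g : ↥(E R)) : conjE Q M (psi hG hp hR g) = psi hG hp hR (conjE R ML g) := by
  apply Subtype.ext
  apply LinearEquiv.ext
  intro v
  obtain ⟨v, rfl⟩ := M.1.surjective v
  rw [coe_conjE, conjLin_apply', psi_apply, psi_apply, coe_conjE]
  conv_rhs => rw [h]
  rw [conjLin_apply', h]

/-- the homomorphism `E R →* G` -/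
def jj (hG : Good Q) (hp : commutator ↥(E R) = ⊤) (hR : KF Q R l) (ρ : ↥(E Q) →* G) : ↥(E R) →* G :=
  ρ.comp (psi hG hp hR)

theorem jj_apply (hG : Good Q) (hp : commutator ↥(E R) = ⊤) (hR : KF Q R l) (g : ↥(E R)) :
    jj hG hp hR ρ g = ρ (psi hG hp hR g) := rfl

theorem x_conj (hG : Good Q) (hp : commutator ↥(E R) = ⊤) (hR : KF Q R l) {x : G} {M : Gam Q}
    (hl : Lf ρ x M) (ML : Gam R) (h : M.1 = ML.1) (g : ↥(E R)) :
    x * jj hG hp hR ρ g * x⁻¹ = jj hG hp hR ρ (conjE R ML g) := by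
  rw [jj_apply, jj_apply, hl, conj_psi hG hp hR M ML h]

theorem ker_jj (hG : Good Q) (hp : commutator ↥(E R) = ⊤) (hR : KF Q R l) (hρ : Rep Q N ρ) :
    (jj hG hp hR ρ).ker ≤ Subgroup.center ↥(E R) := by
  intro g hg
  rw [MonoidHom.mem_ker, jj_apply, ← MonoidHom.mem_ker, hρ.ker, Subgroup.mem_center_iff] at hg
  rw [Subgroup.mem_center_iff]
  intro k
  apply psi_injective hG hp hR
  rw [map_mul, map_mul, hg]

theorem jj_range_le (hG : Good Q) (hp : commutator ↥(E R) = ⊤) (hR : KF Q R l) (hρ : Rep Q N ρ) :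
    (jj hG hp hR ρ).range ≤ N := by
  rintro _ ⟨g, rfl⟩
  rw [← hρ.range]
  exact ⟨_, rfl⟩

/-- an element centralising the image of `E R` is a scalar of `K` -/
theorem scal_of_cent (hG : Good Q) (hp : commutator ↥(E R) = ⊤) (hR : KF Q R l)
    (hsc : ∀ M : Gam R, conjE R M = 1 → IsScal M) (hρ : Rep Q N ρ)
    {x : G} {M : Gam Q} (hl : Lf ρ x M) (ML : Gam R) (h : M.1 = ML.1)
    (hc : ∀ g, x * jj hG hp hR ρ g = jj hG hp hR ρ g * x) : ∃ a : K, a ≠ 0 ∧ ∀ v, M.1 v = a • v := by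
  have h1 : ∀ g, jj hG hp hR ρ (conjE R ML g) = jj hG hp hR ρ g := by
    intro g
    rw [← x_conj hG hp hR hl ML h, hc, mul_inv_cancel_right]
  have h2 : Psi R ML = 1 := by
    ext t
    obtain ⟨t, rfl⟩ := QuotientGroup.mk_surjective t
    rw [Psi_mk]
    show (QuotientGroup.mk (conjE R ML t) : P R) = QuotientGroup.mk t
    rw [eq_comm, QuotientGroup.eq]
    apply ker_jj hG hp hR hρ
    rw [MonoidHom.mem_ker, map_mul, map_inv, h1]
    group
  have h3 : conjE R ML = 1 := eq_one_of_quotAut hp _ h2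
  obtain ⟨a, ha, h4⟩ := hsc ML h3
  exact ⟨a, ha, fun v => by rw [h]; exact h4 v⟩

/-- the Siegel elements of `K`-singular vectors do not all commute with `K` -/
theorem range_ne (hG : Good Q) (hp : commutator ↥(E R) = ⊤) (hR : KF Q R l) (hρ : Rep Q N ρ)
    (hnd : Nondeg R) (h3 : 3 ≤ Module.finrank K V)
    {e f : V} (hef : Hyp R e f) (α : K) (hα : ∀ a : F, α ≠ algebraMap F K a) : (jj hG hp hR ρ).range ≠ N := by
  intro heq
  obtain ⟨w, w', hew, hfw, -, -, hww⟩ := exists_perp2 hnd h3 hef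
  have hw0 : w ≠ 0 := by
    rintro rfl
    rw [polar_zero_left] at hww
    exact zero_ne_one hww
  have hQe : Q e = 0 := by
    have := hR.sing hef.left 1
    rwa [one_smul] at this
  have hQew : polar Q e w = 0 := by
    have := hR.orth hew 1 1
    rwa [one_smul, one_smul] at this
  have h1 : ρ (AutOrth.SemiSim.sg Q e w hQe hQew) ∈ N := by rw [← hρ.range]; exact ⟨_, rfl⟩
  rw [← heq] at h1
  obtain ⟨g, hg⟩ := h1
  have h2 : (psi hG hp hR g)⁻¹ * AutOrth.SemiSim.sg Q e w hQe hQew ∈ Subgroup.center ↥(E Q) := by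
    rw [← hρ.ker, MonoidHom.mem_ker, map_mul, map_inv, ← hg, jj_apply, inv_mul_cancel]
  obtain ⟨a, ha, h3⟩ := scal_of_center hG h2
  have h4 : ∀ v, (AutOrth.SemiSim.sg Q e w hQe hQew : V ≃ₗ[F] V) v = a • (g : V ≃ₗ[K] V) v := by
    intro v
    have h5 := h3 v
    have h6 := congrArg (psi hG hp hR g : V ≃ₗ[F] V) h5
    rw [map_smul] at h6
    have h7 : (psi hG hp hR g : V ≃ₗ[F] V) ((((psi hG hp hR g)⁻¹ *
        AutOrth.SemiSim.sg Q e w hQe hQew : ↥(E Q)) : V ≃ₗ[F] V) v) =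
        (AutOrth.SemiSim.sg Q e w hQe hQew : V ≃ₗ[F] V) v :=
      (psi hG hp hR g : V ≃ₗ[F] V).apply_symm_apply _
    rw [h7] at h6
    exact h6
  have hcomm : ∀ v, (AutOrth.SemiSim.sg Q e w hQe hQew : V ≃ₗ[F] V) (α • v) =
      α • (AutOrth.SemiSim.sg Q e w hQe hQew : V ≃ₗ[F] V) v := by
    intro v
    rw [h4, h4, map_smul, smul_comm]
  -- evaluate at `v` with `B(e, v) = 0`, `B(α e, v) = 1`
  have hae : ∀ c : F, α • e ≠ c • e := by
    intro c hc
    apply hα c
    have h5 : (α - algebraMap F K c) • e = 0 := by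
      rw [sub_smul, hc, algebraMap_smul, sub_self]
    rcases smul_eq_zero.mp h5 with h6 | h6
    · exact sub_eq_zero.mp h6
    · exact (hef.left_ne h6).elim
  obtain ⟨v, hv1, hv2⟩ := exists_sep hG.nondeg hae
  have h5 := hcomm v
  have hs : ∀ v, (AutOrth.SemiSim.sg Q e w hQe hQew : V ≃ₗ[F] V) v =
      v + polar Q e v • w - polar Q w v • e - (Q w * polar Q e v) • e := by
    intro v
    show siegel Q e w hQe hQew v = _
    rw [siegel_apply]
  have hv3 : polar Q e (α • v) = 1 := by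
    rw [← hR.polar_self]
    rw [polar_comm]
    first | exact hv2 | (rw [polar_comm]; exact hv2)
  rw [hs, hs, hv1, hv3] at h5
  -- so `w` is a multiple of `e`
  have h6 : w = (algebraMap F K (polar Q w (α • v)) + algebraMap F K (Q w) - α * algebraMap F K (polar Q w v)) • e := by
    rw [sub_smul, add_smul, algebraMap_smul, algebraMap_smul, mul_smul, algebraMap_smul]
    simp only [one_smul, zero_smul, mul_one, mul_zero, add_zero, sub_zero, smul_sub] at h5
    linear_combination (norm := module) h5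
  rw [h6, polar_smul_right] at hfw
  have h7 : polar R f e = 1 := by rw [polar_comm]; exact hef.pair
  rw [h7, smul_eq_mul, mul_one] at hfw
  rw [hfw, zero_smul] at h6
  exact hw0 h6

end conj

end Cfsg.Agent.H457.RC
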