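import Mathlib

/-!
# S3510, row F even, box D: the field `K = F[κ]` (helper457)

`exists_K`: a linear map `κ` with `κ² = s κ - t`, `X² - s X + t` without root in `F`, makes `V` a vector space
over a field `K` with `q²` elements; `Gen F K α s t`: `α` generates `K`, `α² = s α - t`.
-/

set_option autoImplicit false

namespace Cfsg.Agent.H457.RC

open Polynomial

universe u v

/-- `α` is a generator of the quadratic extension `K / F` with minimal polynomial `X² - s X + t` -/
structure Gen (F K : Type*) [Field F] [Field K] [Algebra F K] (α : K) (s t : F) : Prop where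
  sq : α ^ 2 = algebraMap F K s * α - algebraMap F K t
  gen : ∀ a : K, ∃ x y : F, a = algebraMap F K x + algebraMap F K y * α
  irr : ∀ x : F, x ^ 2 - s * x + t ≠ 0

section poly

variable {F : Type u} [Field F]

/-- the polynomial `X² - s X + t` -/
noncomputable def pol (s t : F) : F[X] := X ^ 2 - C s * X + C t

theorem pol_eq (s t : F) : pol s t = X ^ 2 + (C (-s) * X + C t) := by
  rw [pol, C_neg]; ring

theorem pol_natDegree (s t : F) : (pol s t).natDegree = 2 := by
  rw [pol]
  compute_degree!

theorem pol_monic (s t : F) : (pol s t).Monic := by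
  rw [pol]
  monicity!

theorem pol_irr {s t : F} (h : ∀ x : F, x ^ 2 - s * x + t ≠ 0) : Irreducible (pol s t) := by
  have h2 := pol_natDegree s t
  rw [Polynomial.Monic.irreducible_iff_roots_eq_zero_of_degree_le_three (pol_monic s t) (by omega) (by omega)]
  rw [Multiset.eq_zero_iff_forall_notMem]
  intro x hx
  have h3 := (mem_roots'.mp hx).2
  apply h x
  rw [IsRoot.def, pol] at h3
  simpa using h3

end poly

/-- **The field `K = F[κ]`.** -/
theorem exists_K {F : Type u} [Field F] [Finite F] {V : Type v} [AddCommGroup V] [Module F V] {s t : F}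
    (hirr : ∀ x : F, x ^ 2 - s * x + t ≠ 0) (κ : V →ₗ[F] V) (hκ : ∀ v, κ (κ v) = s • κ v - t • v) :
    ∃ (K : Type u) (_ : Field K) (_ : Finite K) (_ : Algebra F K) (_ : Module K V) (_ : IsScalarTower F K V) (α : K),
      Nat.card K = Nat.card F ^ 2 ∧ (∀ v : V, α • v = κ v) ∧ Gen F K α s t := by
  classical
  have hfact : Fact (Irreducible (pol s t)) := ⟨pol_irr hirr⟩
  let K := AdjoinRoot (pol s t)
  let pb := AdjoinRoot.powerBasis (hfact.out).ne_zero
  have hdim : pb.dim = 2 := by
    rw [AdjoinRoot.powerBasis_dim, pol_natDegree]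
  have hfd : Module.Finite F K := pb.finite
  have hfin : Finite K := Module.finite_of_finite F
  have hfr : Module.finrank F K = 2 := by rw [pb.finrank, hdim]
  -- the action
  have hk2 : aeval κ (pol s t) = 0 := by
    ext v
    rw [pol, map_add, map_sub, map_mul, map_pow, aeval_X, aeval_C, aeval_C]
    simp only [LinearMap.add_apply, LinearMap.sub_apply, Module.End.mul_apply, pow_two,
      Module.algebraMap_end_apply, LinearMap.zero_apply]
    rw [hκ]
    abel
  let φ : K →+* Module.End F V := Ideal.Quotient.lift (Ideal.span {pol s t}) (aeval κ : F[X] →ₐ[F] Module.End F V).toRingHom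
    (by
      intro a ha
      obtain ⟨b, rfl⟩ := Ideal.mem_span_singleton'.mp ha
      show aeval κ (b * pol s t) = 0
      rw [map_mul, hk2, mul_zero])
  have hφX : φ (AdjoinRoot.root (pol s t)) = κ := by
    show aeval κ (X : F[X]) = κ
    rw [aeval_X]
  have hφC : ∀ a : F, φ (algebraMap F K a) = algebraMap F (Module.End F V) a := by
    intro a
    show aeval κ (C a : F[X]) = _
    rw [aeval_C]
  let mod : Module K V := Module.compHom V φ
  have hsm : ∀ (a : K) (v : V), a • v = φ a v := fun a v => rfl
  have htow : IsScalarTower F K V := by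
    constructor
    intro a b v
    rw [hsm, hsm, Algebra.smul_def, map_mul, hφC, Module.End.mul_apply, Module.algebraMap_end_apply]
  refine ⟨K, inferInstance, hfin, inferInstance, mod, htow, AdjoinRoot.root (pol s t), ?_, ?_, ?_, ?_, hirr⟩
  · rw [Module.natCard_eq_pow_finrank (K := F), hfr]
  · intro v
    rw [hsm, hφX]
  · have h1 : aeval (AdjoinRoot.root (pol s t)) (pol s t) = (0 : K) := AdjoinRoot.aeval_eq _ |>.trans AdjoinRoot.mk_self
    have h2 : aeval (AdjoinRoot.root (pol s t) : K) (X ^ 2 - C s * X + C t) = (0 : K) := h1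
    rw [map_add, map_sub, map_mul, map_pow, aeval_X, aeval_C, aeval_C] at h2
    linear_combination h2
  · intro a
    obtain ⟨f, rfl⟩ := AdjoinRoot.mk_surjective a
    have h1 : AdjoinRoot.mk (pol s t) f = AdjoinRoot.mk (pol s t) (f %ₘ pol s t) := by
      rw [AdjoinRoot.mk_eq_mk]
      exact ⟨f /ₘ pol s t, by
        have := modByMonic_add_div f (pol s t)
        linear_combination this.symm⟩
    have h2 : (f %ₘ pol s t).natDegree < 2 := by
      rw [← pol_natDegree s t]
      apply natDegree_modByMonic_lt f (pol_monic s t)
      intro h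
      have := pol_natDegree s t
      rw [h, natDegree_one] at this
      omega
    obtain ⟨y, x, h3⟩ := exists_eq_X_add_C_of_natDegree_le_one (p := f %ₘ pol s t) (by omega)
    refine ⟨x, y, ?_⟩
    rw [h1, h3, map_add, map_mul, AdjoinRoot.mk_C, AdjoinRoot.mk_C, AdjoinRoot.mk_X]
    exact add_comm _ _

section gen

variable {F K : Type*} [Field F] [Field K] [Algebra F K] {α : K} {s t : F}

theorem Gen.notMem (h : Gen F K α s t) (x : F) : α ≠ algebraMap F K x := by
  rintro rfl
  apply h.irr x
  apply (algebraMap F K).injective
  have := h.sq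
  rw [map_add, map_sub, map_mul, map_pow, map_zero]
  linear_combination this

theorem Gen.t_ne (h : Gen F K α s t) : t ≠ 0 := by
  intro ht
  apply h.irr 0
  rw [ht]; ring

theorem Gen.uniq (h : Gen F K α s t) {x y x' y' : F}
    (he : algebraMap F K x + algebraMap F K y * α = algebraMap F K x' + algebraMap F K y' * α) :
    x = x' ∧ y = y' := by
  have h1 : y = y' := by
    by_contra hy
    have h2 : y - y' ≠ 0 := sub_ne_zero.mpr hy
    apply h.notMem ((x' - x) / (y - y'))
    have h3 : algebraMap F K (y - y') ≠ 0 := by
      rw [Ne, map_eq_zero]; exact h2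
    rw [map_div₀, eq_div_iff h3, map_sub, map_sub]
    linear_combination he
  refine ⟨?_, h1⟩
  apply (algebraMap F K).injective
  rw [h1] at he
  exact add_right_cancel he

/-- the generator may be chosen with non zero trace -/
theorem Gen.exists_trace_ne [Finite F] (h : Gen F K α s t) : ∃ (α' : K) (s' t' : F), s' ≠ 0 ∧ Gen F K α' s' t' := by
  by_cases hs : s = 0
  · by_cases h2 : (2 : F) = 0
    · exfalso
      have hc : CharP F 2 := by
        apply CharTwo.of_one_ne_zero_of_two_eq_zero one_ne_zero h2
      obtain ⟨x, hx⟩ := (FiniteField.isSquare_of_char_two (F := F) (ringChar.eq F 2 ▸ rfl) t)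
      apply h.irr x
      rw [hs, hx]
      linear_combination (x * x) * h2
    · refine ⟨α + 1, 2, 1 + t, h2, ?_, ?_, ?_⟩
      · have := h.sq
        rw [hs, map_zero, zero_mul] at this
        rw [map_add, map_one, map_ofNat]
        linear_combination this
      · intro a
        obtain ⟨x, y, rfl⟩ := h.gen a
        refine ⟨x - y, y, ?_⟩
        rw [map_sub]
        ring
      · intro x hx
        apply h.irr (x - 1)
        rw [hs]
        linear_combination hx
  · exact ⟨α, s, t, hs, h⟩

theorem Gen.delta_ne (h : Gen F K α s t) (hs : s ≠ 0) : 2 * α - algebraMap F K s ≠ 0 := by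
  intro h1
  by_cases h2 : (2 : F) = 0
  · have h3 : (2 : K) = 0 := by rw [← map_ofNat (algebraMap F K) 2, h2, map_zero]
    rw [h3, zero_mul, zero_sub, neg_eq_zero, map_eq_zero] at h1
    exact hs h1
  · apply h.notMem (s / 2)
    have h3 : (2 : K) ≠ 0 := by rwa [← map_ofNat (algebraMap F K) 2, Ne, map_eq_zero]
    rw [map_div₀, map_ofNat, eq_div_iff h3]
    linear_combination h1

/-- the functional which recovers `b` from `(a - ᾱ b) / (α - ᾱ)` -/
theorem Gen.exists_functional (h : Gen F K α s t) (hs : s ≠ 0) :
    ∃ l : K →ₗ[F] F, ∀ a b : F,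
      l ((algebraMap F K a - (algebraMap F K s - α) * algebraMap F K b) / (2 * α - algebraMap F K s)) = b := by
  classical
  let x : K → F := fun a => (h.gen a).choose
  let y : K → F := fun a => (h.gen a).choose_spec.choose
  have hxy : ∀ a, a = algebraMap F K (x a) + algebraMap F K (y a) * α := fun a => (h.gen a).choose_spec.choose_spec
  let c : K →ₗ[F] F :=
    { toFun := y
      map_add' := by
        intro a b
        have h1 := hxy (a + b)
        have h2 : a + b = algebraMap F K (x a + x b) + algebraMap F K (y a + y b) * α := by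
          conv_lhs => rw [hxy a, hxy b]
          rw [map_add, map_add]; ring
        exact ((h.uniq (h2.symm.trans h1)).2).symm
      map_smul' := by
        intro k a
        have h1 := hxy (k • a)
        have h2 : k • a = algebraMap F K (k * x a) + algebraMap F K (k * y a) * α := by
          conv_lhs => rw [hxy a]
          rw [map_mul, map_mul, Algebra.smul_def]; ring
        exact ((h.uniq (h2.symm.trans h1)).2).symm }
  have hc : ∀ u w : F, c (algebraMap F K u + algebraMap F K w * α) = w := by
    intro u w
    exact (h.uniq (hxy (algebraMap F K u + algebraMap F K w * α))).2.symm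
  refine ⟨c.comp (LinearMap.mulLeft F (2 * α - algebraMap F K s)), fun a b => ?_⟩
  rw [LinearMap.comp_apply, LinearMap.mulLeft_apply, mul_div_cancel₀ _ (h.delta_ne hs)]
  have h1 : algebraMap F K a - (algebraMap F K s - α) * algebraMap F K b
      = algebraMap F K (a - s * b) + algebraMap F K b * α := by
    rw [map_sub, map_mul]; ring
  rw [h1, hc]

variable {V : Type*} [AddCommGroup V] [Module F V] [Module K V] [IsScalarTower F K V]

/-- maps commuting with `α` are `K`-linear -/
theorem Gen.linear (h : Gen F K α s t) {f : V → V} (hadd : ∀ u v, f (u + v) = f u + f v)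
    (hsm : ∀ (a : F) (v : V), f (a • v) = a • f v) (hα : ∀ v, f (α • v) = α • f v) (a : K) (v : V) :
    f (a • v) = a • f v := by
  obtain ⟨x, y, rfl⟩ := h.gen a
  rw [add_smul, add_smul, mul_smul, mul_smul, hadd, algebraMap_smul, algebraMap_smul, algebraMap_smul,
    algebraMap_smul, hsm, hsm, hα]

end gen

end Cfsg.Agent.H457.RC
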